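import Cfsg.Agent.H491.Rad3.B
import Cfsg.Agent.H561.AAFi23

/-!
# `Fi23`, elements of order three (helper491, for S3854, S3832, S4336)
-/

set_option autoImplicit false

namespace Cfsg.Agent.H491.Rad3

open Subgroup Cfsg Cfsg.Agent.H959.Rad3 Cfsg.Agent.H459.Rad Cfsg.Agent.H839.Rad

theorem irow_fi23 {K : Type*} [Group K] [Finite K] [IsSimpleGroup K] (h : Cfsg.Spor.IsoFi23 K) :
    Cfsg.Agent.H959.Rad3.IRow K := by
  obtain ⟨e⟩ := h
  have hfin : Finite Spor.Fi23 := Finite.of_equiv K e.toEquiv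
  refine IRow.congr e ?_
  have hs : IsSimpleGroup Spor.Fi23 := Cfsg.Agent.S1697.result.1
  obtain ⟨M, hidx, hrad⟩ := Cfsg.Agent.H561.AAFi23.exists_sub
  refine irow_of_sylow (M := M) Cfsg.Agent.H561.AAFi23.na_fi23
    (fun x hx => Cfsg.Agent.H256.OddInner.fi23 (K := Spor.Fi23) ⟨MulEquiv.refl _⟩ x (by rw [hx]; decide)) ?_
    (by rw [hidx]; norm_num) (RadFree.of_eq_bot (by norm_num) hrad)
  intro h1
  rw [h1, index_top] at hidx
  norm_num at hidx

end Cfsg.Agent.H491.Rad3
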